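import Cfsg.Agent.S0277
import Cfsg.Agent.LieClassical.GUOrder
import Cfsg.Agent.ClassicalGeometry.HermOrthonormal
import Mathlib.RingTheory.Trace.Basic
import Mathlib.FieldTheory.Finite.Trace
import Cfsg.Agent.LieClassical.HermBasic
import Mathlib.RingTheory.AdjoinRoot
import Mathlib.FieldTheory.Minpoly.Field
import Mathlib.LinearAlgebra.Matrix.GeneralLinearGroup.Card
import Cfsg.Agent.Prune
set_option linter.all false

section
prune_inst 0x7fffeffffbfffbffffff7ffff7deedfc3b979fffa6fffd4bffea6bffbbff339a09cf67bd09f038fe1fd6413510a8f843ff7eefffe26fdc7ffffdfff45ffbee7ff5f7bd0951d488341fbc2ff683f0778e7f3fffffffffffffffffffffffffffbeffbfffffffff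

-- part: H326/CGU/Herm
section
set_option linter.all false
open scoped Cfsg.Agent.FastGrp

/-!
# Isometry groups of hermitian spaces over finite fields (helper326)

* `exists_frobenius` : an involutory automorphism of a finite field is `a ↦ a ^ s`, `|L| = s ^ 2`;
* `guCard m s` : the order of `GU_m(s)`;
* `card_isom` : the group of isometries of a nondegenerate hermitian form on an `m`-dimensional space has order
  `guCard m s`.
-/

set_option autoImplicit false

namespace Cfsg.Agent.H326.CGU

open Module Matrix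
open Cfsg.Agent.ClassicalGeometry

section Frob

variable {F : Type*} [Field F] [Fintype F]

theorem exists_frobenius {σ : F →+* F} (hne : σ ≠ RingHom.id F) (hinv : ∀ a, σ (σ a) = a) :
    ∃ s : ℕ, Fintype.card F = s ^ 2 ∧ ∀ a, σ a = a ^ s := by
  obtain ⟨p, hp⟩ := CharP.exists F
  have : Fact p.Prime := ⟨CharP.char_is_prime F p⟩
  let _ : Algebra (ZMod p) F := ZMod.algebra F p
  let s : F →ₐ[ZMod p] F := { σ with
    commutes' := fun r => by
      show σ (algebraMap (ZMod p) F r) = algebraMap (ZMod p) F r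
      have : (σ.comp (algebraMap (ZMod p) F)) = algebraMap (ZMod p) F := Subsingleton.elim _ _
      exact RingHom.congr_fun this r }
  obtain ⟨k, hk⟩ := (FiniteField.bijective_frobeniusAlgHom_pow (ZMod p) F).2 s
  have hk' : ∀ a, σ a = a ^ p ^ (k : ℕ) := by
    intro a
    have h1 := DFunLike.congr_fun hk a
    simp only at h1
    rw [AlgHom.coe_pow, FiniteField.coe_frobeniusAlgHom, pow_iterate, ZMod.card] at h1
    exact h1.symm
  have hcard : Fintype.card F = p ^ Module.finrank (ZMod p) F := by
    have := Module.card_eq_pow_finrank (K := ZMod p) (V := F)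
    rwa [ZMod.card] at this
  have hsq : ∀ a : F, a ^ p ^ (2 * (k : ℕ)) = a := by
    intro a
    have h1 := hinv a
    rw [hk', hk', ← pow_mul, ← pow_add] at h1
    rw [two_mul]
    exact h1
  refine ⟨p ^ (k : ℕ), ?_, hk'⟩
  have h1 : (FiniteField.frobeniusAlgHom (ZMod p) F) ^ (2 * (k : ℕ)) = 1 := by
    apply AlgHom.ext
    intro a
    rw [AlgHom.coe_pow, FiniteField.coe_frobeniusAlgHom, pow_iterate, ZMod.card]
    exact hsq a
  have h2 : Module.finrank (ZMod p) F ∣ 2 * (k : ℕ) := by
    have := orderOf_dvd_of_pow_eq_one h1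
    rwa [FiniteField.orderOf_frobeniusAlgHom (ZMod p) F] at this
  have h3 : (k : ℕ) < Module.finrank (ZMod p) F := k.2
  have h4 : (k : ℕ) ≠ 0 := by
    intro h0
    apply hne
    ext a
    rw [hk', h0, pow_zero, pow_one, RingHom.id_apply]
  have h5 : 2 * (k : ℕ) = Module.finrank (ZMod p) F := by
    obtain ⟨j, hj⟩ := h2
    have h6 : j = 1 := by
      rcases j with _ | _ | j
      · omega
      · rfl
      · nlinarith
    rw [hj, h6, mul_one]
  have h9 : p ^ (2 * (k : ℕ)) = p ^ Module.finrank (ZMod p) F := congrArg (fun t => p ^ t) h5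
  rw [hcard, ← h9, mul_comm, pow_mul]

end Frob

/-- the order of `GU_m(s)` -/
def guCard (m s : ℕ) : ℕ :=
  s ^ (m * (m - 1) / 2) * ∏ i ∈ Finset.range m, (if Even i then s ^ (i + 1) + 1 else s ^ (i + 1) - 1)

/-- the group of isometries of the standard hermitian form -/
theorem card_std {L : Type*} [Field L] [Fintype L] {s : ℕ} (hL : Fintype.card L = s ^ 2) (m : ℕ) :
    Nat.card {g : (Fin m → L) ≃ₗ[L] (Fin m → L) // ∀ u v, hermForm m L s (g u) (g v) = hermForm m L s u v} =
      guCard m s := by
  rw [guCard, ← Cfsg.Agent.S0277.result hL m]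
  symm
  refine Nat.card_congr (Equiv.subtypeEquiv
    ((Matrix.GeneralLinearGroup.toLin.trans (LinearMap.GeneralLinearGroup.generalLinearEquiv L (Fin m → L))).toEquiv) ?_)
  intro g
  rw [LieClassical.GUOrder.mem_GU_iff]
  rfl

/-- transport of the group of automorphisms of a module -/
def autC {L V W : Type*} [Field L] [AddCommGroup V] [Module L V] [AddCommGroup W] [Module L W] (e : V ≃ₗ[L] W) :
    (V ≃ₗ[L] V) ≃ (W ≃ₗ[L] W) where
  toFun g := (e.symm.trans g).trans e
  invFun g := (e.trans g).trans e.symm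
  left_inv g := by ext v; simp
  right_inv g := by ext v; simp

/-- **isometry groups of hermitian forms** -/
theorem card_isom {L V : Type*} [Field L] [Fintype L] [AddCommGroup V] [Module L V] [FiniteDimensional L V] {σ : L →+* L}
    (hσ : σ ≠ RingHom.id L) (hσ2 : ∀ a, σ (σ a) = a) (h : V →ₛₗ[σ] V →ₗ[L] L) (hS : h.IsSymm) (hB : h.SeparatingLeft)
    {s : ℕ} (hL : Fintype.card L = s ^ 2) (hs : ∀ a, σ a = a ^ s) :
    Nat.card {g : V ≃ₗ[L] V // ∀ u v, h (g u) (g v) = h u v} = guCard (finrank L V) s := by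
  obtain ⟨b, hb⟩ := HermOrthonormal.exists_orthonormal_basis hσ hσ2 h hS hB
  have hform : ∀ x y : V, hermForm (finrank L V) L s (b.equivFun x) (b.equivFun y) = h y x := by
    intro x y
    conv_rhs => rw [← b.sum_equivFun x, ← b.sum_equivFun y]
    simp only [map_sum, LinearMap.map_smulₛₗ, LinearMap.sum_apply, LinearMap.smul_apply, hb, smul_eq_mul,
      RingHom.id_apply]
    rw [LieClassical.GUOrder.herm_def]
    refine Finset.sum_congr rfl fun i _ => ?_
    rw [Finset.sum_eq_single i]
    · rw [if_pos rfl, mul_one, hs]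
    · intro j _ hj
      rw [if_neg hj]
      ring
    · intro h
      exact absurd (Finset.mem_univ i) h
  rw [← card_std hL]
  refine Nat.card_congr (Equiv.subtypeEquiv (autC b.equivFun) ?_)
  intro g
  have key : ∀ x y : V, hermForm (finrank L V) L s (autC b.equivFun g (b.equivFun x))
      (autC b.equivFun g (b.equivFun y)) = h (g y) (g x) := by
    intro x y
    show hermForm (finrank L V) L s (b.equivFun (g (b.equivFun.symm (b.equivFun x))))
      (b.equivFun (g (b.equivFun.symm (b.equivFun y)))) = h (g y) (g x)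
    rw [LinearEquiv.symm_apply_apply, LinearEquiv.symm_apply_apply, hform]
  constructor
  · intro hg u v
    obtain ⟨x, rfl⟩ := b.equivFun.surjective u
    obtain ⟨y, rfl⟩ := b.equivFun.surjective v
    rw [key, hg, hform]
  · intro hg u v
    rw [← key, hg, hform]

end Cfsg.Agent.H326.CGU

private theorem dce_7173fd66563a : _root_.True := by
  try have : _root_.True := by simp only [_root_.Cfsg.Agent.H326.CGU.guCard.eq_1]
  exact _root_.True.intro
end

-- part: H326/CGU/Form
section
prune_inst 0x1000000000000000800008001201c4282000500000b4000000004000cc04c4000840e20bc30040292a008d5603800081100018002380000000008000118008000000000a0480200280010000000000000000000000000000000000000000000000000000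
set_option linter.all false
open scoped Cfsg.Agent.FastGrp

/-!
# Hermitian forms over an extension field (helper326)

`L / F` finite fields, `σ` an involution of `L` which extends `τ : F →+* F`, `V` an `L`-space,
`B : V →ₛₗ[τ] V →ₗ[F] F` with `B v u = ε τ (B u v)` and `B (a u) v = B u (σ a v)` for `a ∈ L`.

* `exists_herm` : there is a hermitian form `h` on the `L`-space `V` with the same `L`-linear isometries;
* `card_isom_ext` : their number is `guCard (finrank L V) s`, `|L| = s ^ 2`.
-/

set_option autoImplicit false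

namespace Cfsg.Agent.H326.CGU

open Module Cfsg.Agent.ClassicalGeometry

section Functional

variable {F L : Type*} [Field F] [Field L] [Algebra F L]

theorem t_unique {t : L →ₗ[F] F} (ht : t ≠ 0) {c : L} (h : ∀ e, t (e * c) = 0) : c = 0 := by
  by_contra hc
  apply ht
  ext e
  have h1 := h (e * c⁻¹)
  rwa [mul_assoc, inv_mul_cancel₀ hc, mul_one] at h1

theorem t_unique' {t : L →ₗ[F] F} (ht : t ≠ 0) {c d : L} (h : ∀ e, t (e * c) = t (e * d)) : c = d := by
  rw [← sub_eq_zero]
  refine t_unique ht fun e => ?_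
  rw [mul_sub, map_sub, h, sub_self]

theorem exists_rep [FiniteDimensional F L] {t : L →ₗ[F] F} (ht : t ≠ 0) (l : L →ₗ[F] F) : ∃ c, ∀ e, t (e * c) = l e := by
  let Φ : L →ₗ[F] (L →ₗ[F] F) := (LinearMap.mul F L).compr₂ t
  have hΦ : ∀ c e, Φ c e = t (c * e) := fun c e => rfl
  have hinj : Function.Injective Φ := by
    rw [injective_iff_map_eq_zero]
    intro c hc
    refine t_unique ht fun e => ?_
    rw [mul_comm, ← hΦ, hc, LinearMap.zero_apply]
  have hsurj : Function.Surjective Φ := by
    rw [← LinearMap.injective_iff_surjective_of_finrank_eq_finrank]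
    · exact hinj
    · exact (Subspace.dual_finrank_eq (K := F) (V := L)).symm
  obtain ⟨c, hc⟩ := hsurj l
  exact ⟨c, fun e => by rw [mul_comm, ← hΦ, hc]⟩

end Functional

section Form

variable {F L V : Type*} [Field F] [Field L] [Algebra F L] [AddCommGroup V] [Module F V] [Module L V]
  [IsScalarTower F L V] {τ : F →+* F} {σ : L →+* L}

/-- the form over the larger field -/
theorem exists_form [FiniteDimensional F L] (hσ2 : ∀ a, σ (σ a) = a) (B : V →ₛₗ[τ] V →ₗ[F] F)
    (hadj : ∀ (a : L) (u v : V), B (a • u) v = B u (σ a • v)) {t : L →ₗ[F] F} (ht : t ≠ 0) :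
    ∃ h : V →ₛₗ[σ] V →ₗ[L] L, ∀ (a : L) (u v : V), t (a * h u v) = B u (a • v) := by
  have hm : ∀ u v : V, ∃ c : L, ∀ a, t (a * c) = B u (a • v) := fun u v =>
    exists_rep ht
      { toFun := fun a => B u (a • v)
        map_add' := fun a b => by rw [add_smul, map_add]
        map_smul' := fun a b => by rw [smul_assoc, map_smul]; rfl }
  choose m hm using hm
  refine ⟨LinearMap.mk₂'ₛₗ σ (RingHom.id L) m ?_ ?_ ?_ ?_, fun a u v => ?_⟩
  · intro u u' v
    refine t_unique' ht fun e => ?_
    rw [mul_add, map_add, hm, hm, hm, map_add, LinearMap.add_apply]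
  · intro c u v
    refine t_unique' ht fun e => ?_
    rw [hm, smul_eq_mul, ← mul_assoc, hm, hadj, smul_smul, mul_comm e (σ c)]
  · intro u v v'
    refine t_unique' ht fun e => ?_
    rw [mul_add, map_add, hm, hm, hm, smul_add, map_add]
  · intro c u v
    refine t_unique' ht fun e => ?_
    rw [hm, RingHom.id_apply, smul_eq_mul, ← mul_assoc, hm, smul_smul]
  · rw [LinearMap.mk₂'ₛₗ_apply, hm]

variable {B : V →ₛₗ[τ] V →ₗ[F] F} {h : V →ₛₗ[σ] V →ₗ[L] L} {t : L →ₗ[F] F}

omit [IsScalarTower F L V] in
theorem form_symm (hσ2 : ∀ a, σ (σ a) = a) (hadj : ∀ (a : L) (u v : V), B (a • u) v = B u (σ a • v)) (ht : t ≠ 0)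
    (htσ : ∀ a, t (σ a) = τ (t a)) (hh : ∀ (a : L) (u v : V), t (a * h u v) = B u (a • v)) {ε : F}
    (hs : ∀ u v, B v u = ε * τ (B u v)) (u v : V) : h v u = algebraMap F L ε * σ (h u v) := by
  refine t_unique' ht fun e => ?_
  rw [hh, hs, hadj, ← hh, ← htσ, map_mul, hσ2, show e * (algebraMap F L ε * σ (h u v)) = ε • (e * σ (h u v)) by
    rw [Algebra.smul_def]; ring, map_smul, smul_eq_mul]

omit [IsScalarTower F L V] in
theorem form_isom_iff (ht : t ≠ 0) (hh : ∀ (a : L) (u v : V), t (a * h u v) = B u (a • v)) (g : V ≃ₗ[L] V) :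
    (∀ u v, h (g u) (g v) = h u v) ↔ ∀ u v, B (g u) (g v) = B u v := by
  constructor
  · intro hg u v
    have h1 := hh 1 (g u) (g v)
    rw [hg, hh, one_smul, one_smul] at h1
    exact h1.symm
  · intro hg u v
    refine t_unique' ht fun e => ?_
    rw [hh, hh, ← hg u (e • v), LinearEquiv.map_smul]

omit [IsScalarTower F L V] in
theorem form_sep (hh : ∀ (a : L) (u v : V), t (a * h u v) = B u (a • v))
    (hnd : ∀ u, (∀ v, B u v = 0) → u = 0) (u : V) (hu : ∀ v, h u v = 0) : u = 0 := by
  apply hnd
  intro v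
  have h1 := hh 1 u v
  rw [hu, mul_zero, map_zero, one_smul] at h1
  exact h1.symm

end Form

section Finite

variable {F L V : Type*} [Field F] [Fintype F] [Field L] [Fintype L] [Algebra F L] [AddCommGroup V] [Module F V]
  [Module L V] [IsScalarTower F L V] {τ : F →+* F} {σ : L →+* L}

/-- the trace commutes with the involutions -/
theorem trace_sigma (hσ2 : ∀ a, σ (σ a) = a) (hστ : ∀ c, σ (algebraMap F L c) = algebraMap F L (τ c)) (a : L) :
    Algebra.trace F L (σ a) = τ (Algebra.trace F L a) := by
  have hτ2 : ∀ c, τ (τ c) = c := fun c => (algebraMap F L).injective (by rw [← hστ, ← hστ, hσ2])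
  let e₁ : F ≃+* F := RingEquiv.ofRingHom τ τ (RingHom.ext hτ2) (RingHom.ext hτ2)
  let e₂ : L ≃+* L := RingEquiv.ofRingHom σ σ (RingHom.ext hσ2) (RingHom.ext hσ2)
  have h1 := Algebra.trace_eq_of_equiv_equiv e₁ e₂ (RingHom.ext fun c => (hστ c).symm) a
  rw [h1]
  show Algebra.trace F L (σ a) = τ (e₁.symm (Algebra.trace F L (σ a)))
  exact (hτ2 _).symm

theorem trace_ne_zero' : Algebra.trace F L ≠ 0 := by
  have : FiniteDimensional F L := inferInstance
  exact Algebra.trace_ne_zero F L

theorem exists_herm (hσ : σ ≠ RingHom.id L) (hσ2 : ∀ a, σ (σ a) = a)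
    (hστ : ∀ c, σ (algebraMap F L c) = algebraMap F L (τ c)) (B : V →ₛₗ[τ] V →ₗ[F] F)
    (hadj : ∀ (a : L) (u v : V), B (a • u) v = B u (σ a • v)) {ε : F} (hε : ε = 1 ∨ ε = -1)
    (hs : ∀ u v, B v u = ε * τ (B u v)) (hnd : ∀ u, (∀ v, B u v = 0) → u = 0) :
    ∃ h : V →ₛₗ[σ] V →ₗ[L] L, h.IsSymm ∧ h.SeparatingLeft ∧
      ∀ g : V ≃ₗ[L] V, (∀ u v, h (g u) (g v) = h u v) ↔ ∀ u v, B (g u) (g v) = B u v := by
  have : FiniteDimensional F L := inferInstance
  obtain ⟨h, hh⟩ := exists_form hσ2 B hadj (trace_ne_zero' (F := F) (L := L))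
  have hsym := form_symm hσ2 hadj (trace_ne_zero' (F := F) (L := L)) (trace_sigma hσ2 hστ) hh hs
  obtain ⟨c, hc0, hc⟩ : ∃ c : L, c ≠ 0 ∧ c * algebraMap F L ε = σ c := by
    rcases hε with h1 | h1
    · exact ⟨1, one_ne_zero, by rw [h1, map_one, map_one, mul_one]⟩
    · obtain ⟨x, hx⟩ := InvolutiveNorm.exists_sigma_ne hσ
      refine ⟨x - σ x, sub_ne_zero.2 (Ne.symm hx), ?_⟩
      rw [h1, map_neg, map_one, map_sub, hσ2]
      ring
  have hv : ∀ u v, (c • h) u v = c * h u v := fun u v => rfl
  refine ⟨c • h, ⟨fun u v => ?_⟩, ?_, fun g => ?_⟩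
  · rw [hv, hv, map_mul, hsym u v, ← hc]
    ring
  · intro u hu
    refine form_sep hh hnd u fun v => ?_
    have h1 := hu v
    rw [hv, mul_eq_zero] at h1
    exact h1.resolve_left hc0
  · rw [← form_isom_iff (trace_ne_zero' (F := F) (L := L)) hh g]
    constructor
    · intro h1 u v
      have h2 := h1 u v
      rw [hv, hv] at h2
      exact mul_left_cancel₀ hc0 h2
    · intro h1 u v
      rw [hv, hv, h1]

/-- **the number of `L`-linear isometries** -/
theorem card_isom_ext [FiniteDimensional L V] (hσ : σ ≠ RingHom.id L) (hσ2 : ∀ a, σ (σ a) = a)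
    (hστ : ∀ c, σ (algebraMap F L c) = algebraMap F L (τ c)) (B : V →ₛₗ[τ] V →ₗ[F] F)
    (hadj : ∀ (a : L) (u v : V), B (a • u) v = B u (σ a • v)) {ε : F} (hε : ε = 1 ∨ ε = -1)
    (hs : ∀ u v, B v u = ε * τ (B u v)) (hnd : ∀ u, (∀ v, B u v = 0) → u = 0)
    {s : ℕ} (hL : Fintype.card L = s ^ 2) (hsσ : ∀ a, σ a = a ^ s) :
    Nat.card {g : V ≃ₗ[L] V // ∀ u v, B (g u) (g v) = B u v} = guCard (finrank L V) s := by
  obtain ⟨h, h1, h2, h3⟩ := exists_herm hσ hσ2 hστ B hadj hε hs hnd
  rw [← card_isom hσ hσ2 h h1 h2 hL hsσ]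
  exact (Nat.card_congr (Equiv.subtypeEquivRight h3)).symm

end Finite

end Cfsg.Agent.H326.CGU
end

-- part: H326/CGU/Irr
section
prune_inst 0x40004000000000000000001c4282000000000b00000000000004c00c0200000e20b030040298a0004440380008110001000200000000000000011800800000000010000000000000800080000000000000000000000000000000000000000000000
set_option linter.all false
open scoped Cfsg.Agent.FastGrp

-- part: H326/CGU/Unit
section
/-!
# The centraliser of an isometry with irreducible minimal polynomial (helper326)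

`F` a finite field, `τ : F →+* F` the identity or an involution, `B : V →ₛₗ[τ] V →ₗ[F] F` nondegenerate with
`B v u = ε τ (B u v)`, `ε = ± 1`; `w` an isometry of `B` with irreducible minimal polynomial, and `τ ≠ 1` or `w ^ 2 ≠ 1`.

`card_cent_unitary` : the group of isometries which commute with `w` has order `|GU_m(s)|`, where
`s ^ 2 = |F| ^ d`, `dim V = d m`, `d` the degree of the minimal polynomial (`s = |F| ^ k`, `d = 2 k` if `τ = 1`).
-/

set_option autoImplicit false

namespace Cfsg.Agent.H326.CGU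

open Module Polynomial

universe u v

section Adj

variable {F : Type u} {V : Type v} [Field F] [AddCommGroup V] [Module F V] {τ : F →+* F}
  {B : V →ₛₗ[τ] V →ₗ[F] F}

/-- the adjoint of a polynomial in an isometry -/
theorem aeval_adj {W W' : Module.End F V} (h : ∀ u v, B (W u) v = B u (W' v)) (a : F[X]) (u v : V) :
    B (aeval W a u) v = B u (a.eval₂ ((algebraMap F (Module.End F V)).comp τ) W' v) := by
  have hpow : ∀ (n : ℕ) (u v : V), B ((W ^ n) u) v = B u ((W' ^ n) v) := by
    intro n
    induction n with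
    | zero => intro u v; simp
    | succ n ih =>
      intro u v
      rw [pow_succ', Module.End.mul_apply, h, ih, pow_succ, Module.End.mul_apply]
  induction a using Polynomial.induction_on' with
  | add p q hp hq => rw [map_add, LinearMap.add_apply, map_add, LinearMap.add_apply, hp, hq, eval₂_add,
      LinearMap.add_apply, map_add]
  | monomial n a =>
    rw [aeval_monomial, Module.End.mul_apply, Module.algebraMap_end_apply, LinearMap.map_smulₛₗ₂, hpow, eval₂_monomial,
      Module.End.mul_apply, RingHom.comp_apply, Module.algebraMap_end_apply, map_smul]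

end Adj

section Main

variable {F : Type u} {V : Type v} [Field F] [Fintype F] [AddCommGroup V] [Module F V] [FiniteDimensional F V]
  {τ : F →+* F}

theorem nontrivial_of_irr {W : Module.End F V} (hirr : Irreducible (minpoly F W)) : Nontrivial V := by
  by_contra h
  rw [not_nontrivial_iff_subsingleton] at h
  have : Subsingleton (Module.End F V) := ⟨fun a b => LinearMap.ext fun v => Subsingleton.elim _ _⟩
  rw [minpoly.subsingleton] at hirr
  exact not_irreducible_one hirr

theorem comm_aeval {W g : V →ₗ[F] V} (hg : ∀ v, g (W v) = W (g v)) (a : F[X]) (v : V) :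
    g (aeval W a v) = aeval W a (g v) := by
  have h1 : Commute g W := LinearMap.ext hg
  have h2 : Commute g (aeval W a) := by
    induction a using Polynomial.induction_on' with
    | add p q hp hq => rw [map_add]; exact hp.add_right hq
    | monomial n a =>
      rw [aeval_monomial]
      have h3 : Commute g (algebraMap F (Module.End F V) a) := (Algebra.commutes a g).symm
      exact h3.mul_right (h1.pow_right n)
  exact LinearMap.congr_fun h2 v

/-- **the centraliser of an isometry with irreducible minimal polynomial**, unitary type -/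
theorem card_cent_unitary (hτ2 : ∀ c, τ (τ c) = c) (B : V →ₛₗ[τ] V →ₗ[F] F) {ε : F} (hε : ε = 1 ∨ ε = -1)
    (hs : ∀ u v, B v u = ε * τ (B u v)) (hnd : ∀ u, (∀ v, B u v = 0) → u = 0) (w : V ≃ₗ[F] V)
    (hw : ∀ u v, B (w u) (w v) = B u v) (hirr : Irreducible (minpoly F (w : V →ₗ[F] V)))
    (hne : τ ≠ RingHom.id F ∨ ∃ v, w (w v) ≠ v) :
    ∃ s m : ℕ, s ^ 2 = Fintype.card F ^ (minpoly F (w : V →ₗ[F] V)).natDegree ∧
      finrank F V = (minpoly F (w : V →ₗ[F] V)).natDegree * m ∧
      (τ = RingHom.id F → ∃ k, (minpoly F (w : V →ₗ[F] V)).natDegree = 2 * k ∧ s = Fintype.card F ^ k) ∧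
      Nat.card {g : V ≃ₗ[F] V // (∀ u v, B (g u) (g v) = B u v) ∧ ∀ v, g (w v) = w (g v)} = guCard m s := by
  set W : Module.End F V := (w : V →ₗ[F] V) with hW
  have hVn := nontrivial_of_irr hirr
  have : Fact (Irreducible (minpoly F W)) := ⟨hirr⟩
  let L : Type u := AdjoinRoot (minpoly F W)
  let _ : Field L := AdjoinRoot.instField
  let _ : Algebra F L := inferInstanceAs (Algebra F (AdjoinRoot (minpoly F W)))
  have hfin : Module.Finite F L := (AdjoinRoot.powerBasis hirr.ne_zero).finite
  have hLf : Finite L := Module.finite_of_finite F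
  let _ : Fintype L := Fintype.ofFinite L
  have hφ0 : ∀ a : F[X], a ∈ Ideal.span {minpoly F W} → (aeval W : F[X] →ₐ[F] Module.End F V) a = 0 := by
    intro a ha
    obtain ⟨b, rfl⟩ := Ideal.mem_span_singleton.1 ha
    rw [map_mul, minpoly.aeval, zero_mul]
  let φ : L →ₐ[F] Module.End F V := Ideal.Quotient.liftₐ (Ideal.span {minpoly F W}) (aeval W) hφ0
  have hφ : ∀ a : F[X], φ (AdjoinRoot.mk (minpoly F W) a) = aeval W a := fun a => rfl
  have hφi : Function.Injective φ := φ.toRingHom.injective
  let _ : Module L V := Module.compHom V φ.toRingHom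
  have hsm : ∀ (e : L) (v : V), e • v = φ e v := fun e v => rfl
  have hsc : IsScalarTower F L V := ⟨fun a e v => by
    rw [hsm, hsm, map_smul]
    rfl⟩
  have hfd : FiniteDimensional L V := Module.Finite.of_restrictScalars_finite F L V
  let r : L := AdjoinRoot.root (minpoly F W)
  have hr : φ r = W := by
    show φ (AdjoinRoot.mk (minpoly F W) X) = W
    rw [hφ, aeval_X]
  have hrv : ∀ v, r • v = w v := fun v => by rw [hsm, hr]; rfl
  have hr0 : r ≠ 0 := by
    intro h0
    rw [h0, map_zero] at hr
    obtain ⟨v, hv⟩ := exists_ne (0 : V)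
    apply hv
    have h1 : W v = 0 := by rw [← hr]; rfl
    exact w.map_eq_zero_iff.1 h1
  set W' : Module.End F V := (w.symm : V →ₗ[F] V) with hW'
  have hWW' : W * W' = 1 := by ext v; simp [hW, hW']
  have hri : φ r⁻¹ = W' := by
    have h1 : φ r⁻¹ * W = 1 := by rw [← hr, ← map_mul, inv_mul_cancel₀ hr0, map_one]
    calc φ r⁻¹ = φ r⁻¹ * (W * W') := by rw [hWW', mul_one]
      _ = W' := by rw [← mul_assoc, h1, one_mul]
  have hadj0 : ∀ u v, B (W u) v = B u (W' v) := by
    intro u v
    have h1 := hw u (w.symm v)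
    rw [w.apply_symm_apply] at h1
    exact h1
  have hnd' : ∀ v, (∀ u, B u v = 0) → v = 0 := by
    intro v hv
    apply hnd
    intro u
    rw [hs u v, hv, map_zero, mul_zero]
  have hev : ∀ a : F[X], φ (a.eval₂ ((algebraMap F L).comp τ) r⁻¹) =
      a.eval₂ ((algebraMap F (Module.End F V)).comp τ) W' := by
    intro a
    have h1 := Polynomial.hom_eval₂ a ((algebraMap F L).comp τ) φ.toRingHom r⁻¹
    have h2 : φ.toRingHom.comp ((algebraMap F L).comp τ) = (algebraMap F (Module.End F V)).comp τ := by
      ext1 c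
      exact φ.commutes (τ c)
    have h3 : φ.toRingHom r⁻¹ = W' := hri
    rw [h2, h3] at h1
    exact h1
  have hroot : (minpoly F W).eval₂ ((algebraMap F L).comp τ) r⁻¹ = 0 := by
    apply hφi
    rw [hev, map_zero]
    ext v
    apply hnd'
    intro u
    rw [← aeval_adj hadj0, minpoly.aeval, LinearMap.zero_apply, map_zero, LinearMap.zero_apply]
  let σ : L →+* L := AdjoinRoot.lift ((algebraMap F L).comp τ) r⁻¹ hroot
  have hσmk : ∀ a : F[X], σ (AdjoinRoot.mk (minpoly F W) a) = a.eval₂ ((algebraMap F L).comp τ) r⁻¹ := fun a =>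
    AdjoinRoot.lift_mk hroot a
  have hστ : ∀ c, σ (algebraMap F L c) = algebraMap F L (τ c) := fun c => AdjoinRoot.lift_of hroot
  have hσr : σ r = r⁻¹ := AdjoinRoot.lift_root hroot
  have hadj : ∀ (a : L) (u v : V), B (a • u) v = B u (σ a • v) := by
    intro a u v
    obtain ⟨a, rfl⟩ := AdjoinRoot.mk_surjective a
    rw [hsm, hsm, hφ, hσmk, hev]
    exact aeval_adj hadj0 a u v
  have hσ2 : ∀ a, σ (σ a) = a := by
    intro a
    apply hφi
    ext v
    rw [← sub_eq_zero]
    apply hnd'
    intro u
    rw [map_sub, sub_eq_zero]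
    show B u (σ (σ a) • v) = B u (a • v)
    have hεε : ε * τ ε = 1 := by rcases hε with h | h <;> rw [h] <;> simp
    rw [← hadj, hs v, ← hadj, hs u, map_mul, hτ2, ← mul_assoc, hεε, one_mul]
  have hσ : σ ≠ RingHom.id L := by
    intro h
    rcases hne with h1 | ⟨v, hv⟩
    · apply h1
      ext c
      apply (algebraMap F L).injective
      rw [← hστ, h]
      rfl
    · apply hv
      have h2 : r = r⁻¹ := by rw [← hσr, h]; rfl
      have h3 : r * r = 1 := by
        nth_rewrite 2 [h2]
        exact mul_inv_cancel₀ hr0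
      rw [← hrv, ← hrv, smul_smul, h3, one_smul]
  obtain ⟨s, hL, hsσ⟩ := exists_frobenius hσ hσ2
  have hfr : finrank F L = (minpoly F W).natDegree := by
    rw [(AdjoinRoot.powerBasis hirr.ne_zero).finrank, AdjoinRoot.powerBasis_dim]
  have hcardL : Fintype.card L = Fintype.card F ^ (minpoly F W).natDegree := by
    rw [← hfr]
    exact Module.card_eq_pow_finrank
  refine ⟨s, finrank L V, ?_, ?_, ?_, ?_⟩
  · rw [← hL, hcardL]
  · rw [← hfr]
    exact (Module.finrank_mul_finrank F L V).symm
  · intro hτ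
    let N : Submodule F L :=
      { carrier := {x | x ^ s = x}
        add_mem' := fun {a b} ha hb => by
          show (a + b) ^ s = a + b
          rw [← hsσ, map_add, hsσ, hsσ, ha, hb]
        zero_mem' := by
          show (0 : L) ^ s = 0
          rw [← hsσ, map_zero]
        smul_mem' := fun c x hx => by
          show (c • x) ^ s = c • x
          rw [← hsσ, Algebra.smul_def, map_mul, hστ, hsσ, hτ, RingHom.id_apply, show x ^ s = x from hx] }
    have hN1 : Nat.card N = s := LieClassical.HermBasic.card_fixed hL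
    have hN2 : Nat.card N = Fintype.card F ^ finrank F N := by
      rw [← Nat.card_eq_fintype_card]
      exact Module.natCard_eq_pow_finrank
    refine ⟨finrank F N, ?_, by rw [← hN1, hN2]⟩
    have h1 : 1 < Fintype.card F := Fintype.one_lt_card
    apply Nat.pow_right_injective h1
    show Fintype.card F ^ _ = Fintype.card F ^ _
    rw [← hcardL, hL, mul_comm, pow_mul, ← hN2, hN1]
  · rw [← card_isom_ext (V := V) hσ hσ2 hστ B hadj hε hs hnd hL hsσ]
    have hcomm : ∀ g : V ≃ₗ[F] V, (∀ v, g (w v) = w (g v)) → ∀ (e : L) (v : V), g (e • v) = e • g v := by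
      intro g hg e v
      obtain ⟨a, rfl⟩ := AdjoinRoot.mk_surjective e
      rw [hsm, hsm, hφ]
      exact comm_aeval (g := (g : V →ₗ[F] V)) hg a v
    exact Nat.card_congr
      { toFun := fun g => ⟨{ g.1 with map_smul' := fun e v => hcomm g.1 g.2.2 e v }, fun u v => g.2.1 u v⟩
        invFun := fun g => ⟨g.1.restrictScalars F, fun u v => g.2 u v, fun v => by
          show g.1 (w v) = w (g.1 v)
          rw [← hrv, ← hrv, map_smul]⟩
        left_inv := fun g => rfl
        right_inv := fun g => rfl }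

end Main

end Cfsg.Agent.H326.CGU
end

-- part: H326/CGU/Irr
section
/-!
# The centraliser in `GL(U)` of an endomorphism killed by an irreducible polynomial (helper326)

* `glCard m Q` : the order of `GL_m(Q)`; `glCard_eq`;
* `card_cent_irr` : `W : End U`, `p(W) = 0`, `p` irreducible of degree `d`: the centraliser of `W` in `GL(U)` has
  order `glCard m (|F| ^ d)`, `dim U = d m`.
-/

set_option autoImplicit false

namespace Cfsg.Agent.H326.CGU

open Module Polynomial

universe u v

/-- the order of `GL_m(Q)` -/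
def glCard (m Q : ℕ) : ℕ := ∏ i : Fin m, (Q ^ m - Q ^ (i : ℕ))

theorem glCard_eq (m Q : ℕ) : glCard m Q = Q ^ (m * (m - 1) / 2) * ∏ i ∈ Finset.range m, (Q ^ (i + 1) - 1) := by
  unfold glCard
  have h1 : ∀ i : Fin m, Q ^ m - Q ^ (i : ℕ) = Q ^ (i : ℕ) * (Q ^ (m - i) - 1) := by
    intro i
    rw [Nat.mul_sub, mul_one, ← pow_add, Nat.add_sub_cancel' i.2.le]
  rw [Finset.prod_congr rfl fun i _ => h1 i, Finset.prod_mul_distrib]
  congr 1
  · rw [Finset.prod_pow_eq_pow_sum, Fin.sum_univ_eq_sum_range (fun i => i) m, Finset.sum_range_id]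
  · rw [Fin.prod_univ_eq_prod_range (fun i => Q ^ (m - i) - 1) m, ← Finset.prod_range_reflect]
    refine Finset.prod_congr rfl fun i hi => ?_
    rw [Finset.mem_range] at hi
    congr 2
    omega

/-- the group of automorphisms of a space over a finite field -/
theorem card_aut {L U : Type*} [Field L] [Fintype L] [AddCommGroup U] [Module L U] [FiniteDimensional L U] :
    Nat.card (U ≃ₗ[L] U) = glCard (finrank L U) (Fintype.card L) := by
  have h1 := Matrix.card_GL_field (𝔽 := L) (finrank L U)
  unfold glCard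
  rw [← h1]
  let e := (finBasis L U).equivFun
  have h2 := Nat.card_congr (autC e)
  rw [h2]
  exact (Nat.card_congr (Matrix.GeneralLinearGroup.toLin.trans
    (LinearMap.GeneralLinearGroup.generalLinearEquiv L (Fin (finrank L U) → L))).toEquiv).symm

variable {F : Type u} {U : Type v} [Field F] [Fintype F] [AddCommGroup U] [Module F U] [FiniteDimensional F U]

/-- **the centraliser of an endomorphism killed by an irreducible polynomial** -/
theorem card_cent_irr {W : Module.End F U} {p : F[X]} (hp : Irreducible p) (hW : aeval W p = 0) :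
    ∃ m : ℕ, finrank F U = p.natDegree * m ∧
      Nat.card {g : U ≃ₗ[F] U // ∀ v, g (W v) = W (g v)} = glCard m (Fintype.card F ^ p.natDegree) := by
  have : Fact (Irreducible p) := ⟨hp⟩
  let L : Type u := AdjoinRoot p
  let _ : Field L := AdjoinRoot.instField
  let _ : Algebra F L := inferInstanceAs (Algebra F (AdjoinRoot p))
  have hfin : Module.Finite F L := (AdjoinRoot.powerBasis hp.ne_zero).finite
  have hLf : Finite L := Module.finite_of_finite F
  let _ : Fintype L := Fintype.ofFinite L
  have hφ0 : ∀ a : F[X], a ∈ Ideal.span {p} → (aeval W : F[X] →ₐ[F] Module.End F U) a = 0 := by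
    intro a ha
    obtain ⟨b, rfl⟩ := Ideal.mem_span_singleton.1 ha
    rw [map_mul, hW, zero_mul]
  let φ : L →ₐ[F] Module.End F U := Ideal.Quotient.liftₐ (Ideal.span {p}) (aeval W) hφ0
  have hφ : ∀ a : F[X], φ (AdjoinRoot.mk p a) = aeval W a := fun a => rfl
  let _ : Module L U := Module.compHom U φ.toRingHom
  have hsm : ∀ (e : L) (v : U), e • v = φ e v := fun e v => rfl
  have hsc : IsScalarTower F L U := ⟨fun a e v => by
    rw [hsm, hsm, map_smul]
    rfl⟩
  have hfd : FiniteDimensional L U := Module.Finite.of_restrictScalars_finite F L U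
  have hrv : ∀ v : U, (AdjoinRoot.mk p X : L) • v = W v := fun v => by rw [hsm, hφ, aeval_X]
  have hfr : finrank F L = p.natDegree := by
    rw [(AdjoinRoot.powerBasis hp.ne_zero).finrank, AdjoinRoot.powerBasis_dim]
  have hcardL : Fintype.card L = Fintype.card F ^ p.natDegree := by
    rw [← hfr]
    exact Module.card_eq_pow_finrank
  refine ⟨finrank L U, ?_, ?_⟩
  · rw [← hfr]
    exact (Module.finrank_mul_finrank F L U).symm
  · rw [← hcardL, ← card_aut]
    have hcomm : ∀ g : U ≃ₗ[F] U, (∀ v, g (W v) = W (g v)) → ∀ (e : L) (v : U), g (e • v) = e • g v := by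
      intro g hg e v
      obtain ⟨a, rfl⟩ := AdjoinRoot.mk_surjective e
      rw [hsm, hsm, hφ]
      exact comm_aeval (g := (g : U →ₗ[F] U)) hg a v
    exact Nat.card_congr
      { toFun := fun g => { g.1 with map_smul' := fun e v => hcomm g.1 g.2 e v }
        invFun := fun g => ⟨g.restrictScalars F, fun v => by
          show g (W v) = W (g v)
          rw [← hrv, ← hrv, map_smul]⟩
        left_inv := fun g => rfl
        right_inv := fun g => rfl }

end Cfsg.Agent.H326.CGU
end
end
end
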